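import Mathlib.CategoryTheory.Monoidal.Cartesian.Grp

/-!
# Transport of group structures along mapping properties
-/

universe v₁ v₂ u₁ u₂

open CategoryTheory MonoidalCategory CartesianMonoidalCategory MonObj

namespace Groth.Agent.NeronGrp19

variable {C : Type u₁} [Category.{v₁} C] [CartesianMonoidalCategory C] {D : Type u₂} [Category.{v₂} D]
  [CartesianMonoidalCategory D]

/-- A group structure on an object receiving morphisms like a group in another category. -/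
theorem exists_grpObj (F : C ⥤ D) (A : D) [GrpObj A] (N : C) (e : F.obj N ≅ A) (P : C → Prop)
    (hU : P (𝟙_ C)) (hN : P N) (hUN : P (𝟙_ C ⊗ N)) (hNU : P (N ⊗ 𝟙_ C)) (hNN : P (N ⊗ N))
    (hNNN : P ((N ⊗ N) ⊗ N))
    (hb : ∀ Y, P Y → Function.Bijective (fun g : Y ⟶ N => F.map g ≫ e.hom)) : Nonempty (GrpObj N) := by
  let Φ {Y : C} (g : Y ⟶ N) : F.obj Y ⟶ A := F.map g ≫ e.hom
  have hΦ : ∀ {T Y : C} (f : T ⟶ Y) (g : Y ⟶ N), Φ (f ≫ g) = F.map f ≫ Φ g := fun f g => by simp [Φ]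
  obtain ⟨mul, hmul⟩ := (hb _ hNN).2 (Φ (fst N N) * Φ (snd N N))
  obtain ⟨one, hone⟩ := (hb _ hU).2 1
  obtain ⟨inv, hinv⟩ := (hb _ hN).2 (Φ (𝟙 N))⁻¹
  change Φ mul = _ at hmul
  change Φ one = _ at hone
  change Φ inv = _ at hinv
  have hm : ∀ {T : C} (a b : T ⟶ N), Φ (lift a b ≫ mul) = Φ a * Φ b := fun a b => by
    rw [hΦ, hmul, MonObj.comp_mul, ← hΦ, ← hΦ, lift_fst, lift_snd]
  have ho : ∀ {T : C}, Φ (toUnit T ≫ one) = 1 := fun {T} => by rw [hΦ, hone, MonObj.comp_one]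
  have hi : ∀ {T : C} (a : T ⟶ N), Φ (a ≫ inv) = (Φ a)⁻¹ := fun a => by
    rw [hΦ, hinv, GrpObj.comp_inv, ← hΦ, Category.comp_id]
  exact ⟨{
    one := one
    mul := mul
    one_mul := (hb _ hUN).1 (show Φ _ = Φ _ by
      rw [show one ▷ N = lift (fst (𝟙_ C) N ≫ one) (snd (𝟙_ C) N) by apply CartesianMonoidalCategory.hom_ext <;> simp,
        hm, show fst (𝟙_ C) N = toUnit _ from toUnit_unique _ _, ho, _root_.one_mul, leftUnitor_hom])
    mul_one := (hb _ hNU).1 (show Φ _ = Φ _ by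
      rw [show N ◁ one = lift (fst N (𝟙_ C)) (snd N (𝟙_ C) ≫ one) by apply CartesianMonoidalCategory.hom_ext <;> simp,
        hm, show snd N (𝟙_ C) = toUnit _ from toUnit_unique _ _, ho, _root_.mul_one, rightUnitor_hom])
    mul_assoc := (hb _ hNNN).1 (show Φ _ = Φ _ by
      rw [show mul ▷ N = lift (fst (N ⊗ N) N ≫ mul) (snd (N ⊗ N) N) by apply CartesianMonoidalCategory.hom_ext <;> simp,
        show (α_ N N N).hom ≫ (N ◁ mul) ≫ mul =
          lift (fst (N ⊗ N) N ≫ fst N N) (lift (fst (N ⊗ N) N ≫ snd N N) (snd (N ⊗ N) N) ≫ mul) ≫ mul by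
          rw [← Category.assoc]; congr 1; apply CartesianMonoidalCategory.hom_ext
          · simp
          · rw [Category.assoc, whiskerLeft_snd, lift_snd, ← Category.assoc]
            congr 1
            apply CartesianMonoidalCategory.hom_ext <;> simp [Category.assoc],
        hm, hm, hm, show fst (N ⊗ N) N ≫ mul = lift (fst (N ⊗ N) N ≫ fst N N) (fst (N ⊗ N) N ≫ snd N N) ≫ mul by
          congr 1; apply CartesianMonoidalCategory.hom_ext <;> simp,
        hm, _root_.mul_assoc])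
    inv := inv
    left_inv := (hb _ hN).1 (show Φ _ = Φ _ by
      rw [hm, ho, show Φ inv = (Φ (𝟙 N))⁻¹ from hinv, inv_mul_cancel])
    right_inv := (hb _ hN).1 (show Φ _ = Φ _ by
      rw [hm, ho, show Φ inv = (Φ (𝟙 N))⁻¹ from hinv, mul_inv_cancel]) }⟩

end Groth.Agent.NeronGrp19
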