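import Groth.Agent.Lib.HensSect19.Basic
import Groth.Agent.Lib.SepDense19.Basic

/-!
# Sections of smooth schemes over strictly henselian local rings
-/

universe u

open CategoryTheory CategoryTheory.Limits AlgebraicGeometry

set_option linter.style.haveILetI false
set_option backward.isDefEq.respectTransparency.types false

namespace Groth.Agent.NeronGrp19

/-- Every open meeting the special fibre of a smooth scheme over a strictly henselian ring has a section. -/
theorem exists_section_mem {R : Type u} [CommRing R] [HenselianLocalRing R]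
    [IsSepClosed (IsLocalRing.ResidueField R)] {P : Scheme.{u}} (s : P ⟶ Spec (CommRingCat.of R)) [Smooth s]
    (U : P.Opens) (z : P) (hzU : z ∈ U) (hz : s z = IsLocalRing.closedPoint R) :
    ∃ g : Spec (CommRingCat.of R) ⟶ P, g ≫ s = 𝟙 _ ∧ g (IsLocalRing.closedPoint R) ∈ U := by
  let k := IsLocalRing.ResidueField R
  let jk : Spec (CommRingCat.of k) ⟶ Spec (CommRingCat.of R) :=
    Spec.map (CommRingCat.ofHom (IsLocalRing.residue R))
  have hjk : jk.base (IsLocalRing.closedPoint k) = IsLocalRing.closedPoint R := by
    refine PrimeSpectrum.ext ?_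
    show Ideal.comap (IsLocalRing.residue R) (IsLocalRing.maximalIdeal k) = IsLocalRing.maximalIdeal R
    rw [IsLocalRing.maximalIdeal_eq_bot]
    exact IsLocalRing.ker_residue
  let jc := pullback.fst s jk
  let q := pullback.snd s jk
  obtain ⟨a, rfl⟩ : z ∈ Set.range jc.base := by
    have e : Set.range jc.base = s.base ⁻¹' Set.range jk.base := Scheme.Pullback.range_fst s jk
    rw [e]
    exact ⟨IsLocalRing.closedPoint k, hjk.trans hz.symm⟩
  haveI : Smooth q := MorphismProperty.pullback_snd (P := @Smooth) _ _ inferInstance
  letI : (pullback s jk).Over (Spec (CommRingCat.of k)) := ⟨q⟩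
  haveI : LocallyOfFiniteType ((pullback s jk) ↘ Spec (CommRingCat.of k)) := inferInstanceAs (LocallyOfFiniteType q)
  haveI : Smooth ((pullback s jk) ↘ Spec (CommRingCat.of k)) := inferInstanceAs (Smooth q)
  haveI := GeomRed.geometricallyReduced_of_smooth (k := k) (X := pullback s jk)
  obtain ⟨b, hb, -, hfin, hsep⟩ := SepDense19.exists_separable_point (k := k) (jc ⁻¹ᵁ U) (x := a) hzU
  letI := Curv2.resAlgebra k (pullback s jk) b
  haveI := hsep
  let σ : (pullback s jk).residueField b →ₐ[k] k := IsSepClosed.lift
  let p : Spec (CommRingCat.of k) ⟶ pullback s jk :=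
    Spec.map (CommRingCat.ofHom σ.toRingHom) ≫ (pullback s jk).fromSpecResidueField b
  have hpq : p ≫ q = 𝟙 _ := by
    have k0 : Spec.map (CommRingCat.ofHom (Curv2.resMap k (pullback s jk) b)) =
        (pullback s jk).fromSpecResidueField b ≫ q := GeomIrr.spec_resMap k (pullback s jk) b
    have k1 : σ.toRingHom.comp (Curv2.resMap k (pullback s jk) b) = algebraMap k k := σ.comp_algebraMap
    rw [Category.assoc, ← k0, ← Spec.map_comp, ← CommRingCat.ofHom_comp, k1]
    exact Spec.map_id _
  haveI : HenselianRing R (RingHom.ker (IsLocalRing.residue R)) := by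
    rw [IsLocalRing.ker_residue]; infer_instance
  obtain ⟨g, hg, hg0⟩ := HensSect19.exists_section_of_smooth (IsLocalRing.residue R) IsLocalRing.residue_surjective
    s (p ≫ jc) (by rw [Category.assoc, pullback.condition, reassoc_of% hpq])
  refine ⟨g, hg, ?_⟩
  have e := congrArg (fun m : Spec (CommRingCat.of k) ⟶ P => m.base (IsLocalRing.closedPoint k)) hg0
  simp only [Scheme.Hom.comp_apply] at e
  rw [show (Spec.map (CommRingCat.ofHom (IsLocalRing.residue R))).base (IsLocalRing.closedPoint k) =
    IsLocalRing.closedPoint R from hjk] at e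
  rw [e]
  have hpb : p.base (IsLocalRing.closedPoint k) = b := by
    simp only [p, Scheme.Hom.comp_apply]
    exact Scheme.fromSpecResidueField_apply _ _
  rw [hpb]
  exact hb

end Groth.Agent.NeronGrp19
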